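import Groth.Agent.Lib.NormBundle5.Free

/-!
Restriction of norms of modules to opens, and relative ampleness.
-/

set_option autoImplicit false

universe u

open CategoryTheory Limits AlgebraicGeometry TopologicalSpace Opposite

set_option backward.isDefEq.respectTransparency false
set_option linter.style.haveILetI false

noncomputable section

namespace Groth.Agent.NormBundle5

open Groth.Agent.M1
open Groth.Agent.M2 (pullSec IsGenerator)

variable {X X' Y : Scheme.{u}} {g : X' ⟶ X}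

theorem preimage_ι_comm (g : X' ⟶ X) (W₀ O : X.Opens) :
    (g ∣_ W₀) ⁻¹ᵁ (W₀.ι ⁻¹ᵁ O) = (g ⁻¹ᵁ W₀).ι ⁻¹ᵁ (g ⁻¹ᵁ O) := by
  rw [← Scheme.Hom.comp_preimage, morphismRestrict_ι, Scheme.Hom.comp_preimage]

theorem ores_ι_app (U : X.Opens) {O : X.Opens} {V : U.toScheme.Opens} (h : V ≤ U.ι ⁻¹ᵁ O) (a : Γ(X, O)) :
    (ores (X := U.toScheme) h (U.ι.app O a) : Γ(X, U.ι ''ᵁ V)) =
      ores (X := X) ((U.ι.image_mono h).trans (U.ι.image_preimage_le O)) a := by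
  rw [Scheme.Opens.ι_app]
  show ores (X := X) (U.ι.image_mono h) (ores (X := X) (U.ι.image_preimage_le O) a) = _
  exact ores_ores (X := X) _ _ a

/-- Restriction of a pair to an open. -/
def Pair.restrict {D : MulNorm g} {L : X.Modules} {L' : X'.Modules} (P : Pair D L L') (W₀ : X.Opens) :
    Pair (D.restrict W₀) ((Scheme.Modules.pullback W₀.ι).obj L)
      ((Scheme.Modules.pullback (g ⁻¹ᵁ W₀).ι).obj L') where
  hL := PicLoc.isInvertible_pullback _ P.hL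
  hL' := PicLoc.isInvertible_pullback _ P.hL'
  W z := W₀.ι ⁻¹ᵁ P.W (W₀.ι z)
  mem z := P.mem (W₀.ι z)
  e z := pullSec W₀.ι L (P.e (W₀.ι z))
  he z := Twist.IsGen.pullback W₀.ι (P.he (W₀.ι z))
  e' z := mres _ (preimage_ι_comm g W₀ (P.W (W₀.ι z))).le (pullSec (g ⁻¹ᵁ W₀).ι L' (P.e' (W₀.ι z)))
  he' z := Amp.isGenerator_res _ (Twist.IsGen.pullback _ (P.he' (W₀.ι z)))
  η a b := ores (preimage_ι_comm g W₀ (P.W (W₀.ι a) ⊓ P.W (W₀.ι b))).le
    ((g ⁻¹ᵁ W₀).ι.app _ (P.η (W₀.ι a) (W₀.ι b)))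
  rel' a b := by
    rw [mres_mres, mres_mres]
    have h := congrArg (mres ((Scheme.Modules.pullback (g ⁻¹ᵁ W₀).ι).obj L')
        (preimage_ι_comm g W₀ (P.W (W₀.ι a) ⊓ P.W (W₀.ι b))).le)
      (congrArg (pullSec (g ⁻¹ᵁ W₀).ι L') (P.rel' (W₀.ι a) (W₀.ι b)))
    rw [M2.pullSec_smul, mres_smul, ← Norm11.mres_pullSec, ← Norm11.mres_pullSec, mres_mres, mres_mres] at h
    exact h
  rel a b := by
    have h := congrArg (pullSec W₀.ι L) (P.rel (W₀.ι a) (W₀.ι b))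
    rw [M2.pullSec_smul, ← Norm11.mres_pullSec, ← Norm11.mres_pullSec] at h
    refine h.trans (congrArg (· • _) ?_)
    let O := P.W (W₀.ι a) ⊓ P.W (W₀.ι b)
    show W₀.ι.app O (D.N O (P.η (W₀.ι a) (W₀.ι b))) = D.N (W₀.ι ''ᵁ (W₀.ι ⁻¹ᵁ O))
      (ores (X := X') (image_morphismRestrict_preimage g W₀ (W₀.ι ⁻¹ᵁ O)).ge
        (ores (X := (g ⁻¹ᵁ W₀).toScheme) (preimage_ι_comm g W₀ O).le
          ((g ⁻¹ᵁ W₀).ι.app (g ⁻¹ᵁ O) (P.η (W₀.ι a) (W₀.ι b)))))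
    rw [show W₀.ι.app O (D.N O (P.η (W₀.ι a) (W₀.ι b))) =
        ores (X := X) (W₀.ι.image_preimage_le O) (D.N O (P.η (W₀.ι a) (W₀.ι b))) by
      rw [Scheme.Opens.ι_app]; rfl, D.N_res]
    congr 1
    rw [ores_ι_app]
    exact (ores_ores (X := X') _ _ _).symm

/-- An invertible module relatively ample on a finite surjective cover with norms has a relatively
ample norm. -/
theorem exists_isRelAmple (f : X ⟶ Y) [QuasiCompact f] [IsFinite g] [Surjective g] (D : MulNorm g)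
    {L' : X'.Modules} (hL' : PicF.IsInvertible L') (h : RelAmple.IsRelAmple (g ≫ f) L') :
    ∃ L : X.Modules, PicF.IsInvertible L ∧ RelAmple.IsRelAmple f L := by
  obtain ⟨L, ⟨P⟩⟩ := exists_pair D hL'
  refine ⟨L, P.hL, inferInstance, fun V => ?_⟩
  haveI : IsFinite (g ∣_ (f ⁻¹ᵁ V.1)) :=
    MorphismProperty.of_isPullback (isPullback_morphismRestrict g (f ⁻¹ᵁ V.1)).flip inferInstance
  haveI : Surjective (g ∣_ (f ⁻¹ᵁ V.1)) :=
    MorphismProperty.of_isPullback (isPullback_morphismRestrict g (f ⁻¹ᵁ V.1)).flip inferInstance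
  have hA : CohB1.IsAmple (L'.restrict (g ⁻¹ᵁ (f ⁻¹ᵁ V.1)).ι) := h.2 V
  exact Amp.isAmple_of_iso ((Scheme.Modules.restrictFunctorIsoPullback (f ⁻¹ᵁ V.1).ι).app L).symm
    ((P.restrict (f ⁻¹ᵁ V.1)).isAmple
      (Amp.isAmple_of_iso ((Scheme.Modules.restrictFunctorIsoPullback (g ⁻¹ᵁ (f ⁻¹ᵁ V.1)).ι).app L') hA))

end Groth.Agent.NormBundle5
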