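import Groth.Prelude.Def_Fitting
import Mathlib

/-!
The norm of degree a power of `p` of the reduction of a Noetherian scheme of characteristic `p`.
-/

set_option autoImplicit false

universe u

open CategoryTheory AlgebraicGeometry TopologicalSpace Opposite

set_option backward.isDefEq.respectTransparency false
set_option linter.style.haveILetI false

noncomputable section

namespace Groth.Agent.NormBundle5.CharP

variable (X : Scheme.{u})

theorem exists_nil_bound [IsNoetherian X] :
    ∃ n : ℕ, ∀ (x : X) (w : X.presheaf.stalk x), IsNilpotent w → w ^ n = 0 := by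
  classical
  choose U hU hxU _ using fun x : X => exists_isAffineOpen_mem_and_subset (X := X) (x := x) (U := ⊤) trivial
  obtain ⟨s, hs⟩ := isCompact_univ.elim_finite_subcover (fun x : X => (U x : Set X)) (fun x => (U x).2)
    (fun x _ => Set.mem_iUnion.2 ⟨x, hxU x⟩)
  have hN : ∀ x : X, IsNilpotent (nilradical Γ(X, U x)) := fun x => by
    haveI : IsNoetherianRing Γ(X, U x) := IsLocallyNoetherian.component_noetherian ⟨U x, hU x⟩
    exact IsNoetherianRing.isNilpotent_nilradical _
  choose N hN using hN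
  refine ⟨(s.sup N) + 1, fun x w hw => ?_⟩
  obtain ⟨i, hi, hxi⟩ := Set.mem_iUnion₂.1 (hs (Set.mem_univ x))
  letI := TopCat.Presheaf.algebra_section_stalk X.presheaf (⟨x, hxi⟩ : U i)
  haveI := (hU i).isLocalization_stalk ⟨x, hxi⟩
  obtain ⟨⟨a, t⟩, ht⟩ := IsLocalization.surj ((hU i).primeIdealOf ⟨x, hxi⟩).asIdeal.primeCompl w
  obtain ⟨k, hk⟩ := hw
  have h1 : algebraMap Γ(X, U i) (X.presheaf.stalk x) (a ^ k) = 0 := by
    rw [map_pow, ← ht, mul_pow, hk, zero_mul]
  obtain ⟨t', ht'⟩ := (IsLocalization.map_eq_zero_iff ((hU i).primeIdealOf ⟨x, hxi⟩).asIdeal.primeCompl _ _).1 h1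
  have h2 : (t' : Γ(X, U i)) * a ∈ nilradical Γ(X, U i) := ⟨k + 1, by
    calc ((t' : Γ(X, U i)) * a) ^ (k + 1) = (t' : Γ(X, U i)) ^ k * a * ((t' : Γ(X, U i)) * a ^ k) := by ring
      _ = 0 := by rw [ht', mul_zero]⟩
  have h3 : ((t' : Γ(X, U i)) * a) ^ N i = 0 := by
    have := Ideal.pow_mem_pow h2 (N i)
    rwa [hN i, Submodule.zero_eq_bot, Ideal.mem_bot] at this
  have h4 : ((t' : Γ(X, U i)) * a) ^ ((s.sup N) + 1) = 0 :=
    pow_eq_zero_of_le (le_trans (Finset.le_sup hi) (Nat.le_succ _)) h3
  have h5 := congrArg (algebraMap Γ(X, U i) (X.presheaf.stalk x)) h4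
  rw [map_pow, map_zero, map_mul, ← ht, ← mul_assoc, mul_right_comm, mul_pow] at h5
  exact ((IsLocalization.map_units (X.presheaf.stalk x) t').mul
    (IsLocalization.map_units (X.presheaf.stalk x) t)).pow _ |>.mul_right_eq_zero.1 h5

variable {X}

theorem isNilpotent_of_stalkMap (z : X.nilradical.subscheme) (w : X.presheaf.stalk (X.nilradical.subschemeι z))
    (hw : X.nilradical.subschemeι.stalkMap z w = 0) : IsNilpotent w := by
  let ι := X.nilradical.subschemeι
  obtain ⟨U₀, hU₀, r₀, rfl⟩ := X.presheaf.exists_germ_eq w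
  erw [Scheme.Hom.germ_stalkMap_apply] at hw
  rw [← map_zero (X.nilradical.subscheme.presheaf.germ (ι ⁻¹ᵁ U₀) z hU₀).hom] at hw
  obtain ⟨Z, hzZ, i₁, i₂, hZ⟩ := X.nilradical.subscheme.presheaf.germ_eq z hU₀ hU₀ _ _ hw
  obtain ⟨O, hO, hOZ⟩ := ι.isEmbedding.isInducing.isOpen_iff.1 Z.2
  obtain ⟨U, hU, hxU, hUle⟩ := exists_isAffineOpen_mem_and_subset (X := X) (x := ι z)
    (U := U₀ ⊓ ⟨O, hO⟩) ⟨hU₀, hOZ.symm.subset (show z ∈ (Z : Set _) from hzZ)⟩
  have hle : ι ⁻¹ᵁ U ≤ Z := fun y hy => hOZ.subset (show ι y ∈ O from (hUle hy).2)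
  rw [← TopCat.Presheaf.germ_res_apply X.presheaf (homOfLE (hUle.trans inf_le_left)) _ hxU r₀]
  refine IsNilpotent.map ?_ (X.presheaf.germ U (ι z) hxU).hom
  have h0 : ι.app U (X.presheaf.map (homOfLE (hUle.trans inf_le_left)).op r₀) = 0 := by
    have key : ∀ f : op (ι ⁻¹ᵁ U₀) ⟶ op (ι ⁻¹ᵁ U),
        X.nilradical.subscheme.presheaf.map f (ι.app U₀ r₀) = 0 := fun f => by
      rw [Subsingleton.elim f (i₁.op ≫ (homOfLE hle).op), Functor.map_comp]
      show X.nilradical.subscheme.presheaf.map _ (X.nilradical.subscheme.presheaf.map i₁.op _) = 0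
      rw [hZ, map_zero, map_zero]
    exact (ConcreteCategory.congr_hom (ι.naturality (homOfLE (hUle.trans inf_le_left : U ≤ U₀)).op) r₀).trans (key _)
  have hmem : X.presheaf.map (homOfLE (hUle.trans inf_le_left)).op r₀ ∈
      RingHom.ker (ι.app U).hom := h0
  rw [X.nilradical.ker_subschemeι_app ⟨U, hU⟩] at hmem
  exact mem_nilradical.1 hmem

variable (p : ℕ) [hp : Fact p.Prime]

theorem pow_eq_of_nilpotent_sub {R : Type u} [CommRing R] [Nontrivial R] (hpR : (p : R) = 0) {n e : ℕ} (hne : n ≤ p ^ e)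
    {v w : R} (h : (v - w) ^ n = 0) : v ^ (p ^ e) = w ^ (p ^ e) := by
  haveI : CharP R p := CharP.charP_iff_prime_eq_zero hp.out |>.2 hpR
  haveI : ExpChar R p := ExpChar.prime hp.out
  have := add_pow_expChar_pow (v - w) w p e
  rwa [sub_add_cancel, pow_eq_zero_of_le hne h, zero_add] at this

/-- `c` is locally the `q`-th power of a lift of `a`. -/
def IsPN (q : ℕ) (W : X.Opens) (a : Γ(X.nilradical.subscheme, X.nilradical.subschemeι ⁻¹ᵁ W)) (c : Γ(X, W)) : Prop :=
  ∀ (z : X.nilradical.subscheme) (h : X.nilradical.subschemeι z ∈ W) (w : X.presheaf.stalk (X.nilradical.subschemeι z)),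
    X.nilradical.subschemeι.stalkMap z w = X.nilradical.subscheme.presheaf.germ _ z h a →
      X.presheaf.germ W _ h c = w ^ q

theorem surjective_ι (x : X) : ∃ z, X.nilradical.subschemeι z = x := by
  have h : x ∈ Set.range X.nilradical.subschemeι := by
    rw [Scheme.IdealSheafData.range_subschemeι, Scheme.support_nilradical]
    trivial
  exact h

variable {q : ℕ} {W : X.Opens} {a b : Γ(X.nilradical.subscheme, X.nilradical.subschemeι ⁻¹ᵁ W)}

theorem IsPN.unique {c c' : Γ(X, W)} (h : IsPN q W a c) (h' : IsPN q W a c') : c = c' := by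
  refine TopCat.Presheaf.section_ext X.sheaf W c c' fun x hx => ?_
  obtain ⟨z, rfl⟩ := surjective_ι x
  obtain ⟨w, hw⟩ := X.nilradical.subschemeι.stalkMap_surjective z (X.nilradical.subscheme.presheaf.germ _ z hx a)
  exact (h z hx w hw).trans (h' z hx w hw).symm

theorem IsPN.res {W' : X.Opens} (le : W' ⟶ W) {c : Γ(X, W)} (h : IsPN q W a c) :
    IsPN q W' (X.nilradical.subscheme.presheaf.map ((Opens.map X.nilradical.subschemeι.base).map le).op a)
      (X.presheaf.map le.op c) := fun z hz w hw => by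
  rw [TopCat.Presheaf.germ_res_apply] at hw ⊢
  exact h z (le.le hz) w hw

theorem exists_isPN (hpX : (p : Γ(X, ⊤)) = 0) {n e : ℕ}
    (hn : ∀ (x : X) (w : X.presheaf.stalk x), IsNilpotent w → w ^ n = 0) (hne : n ≤ p ^ e)
    (W : X.Opens) (a : Γ(X.nilradical.subscheme, X.nilradical.subschemeι ⁻¹ᵁ W)) :
    ∃ c, IsPN (p ^ e) W a c := by
  choose U hU hxU hUW using fun x : W => exists_isAffineOpen_mem_and_subset (X := X) (x := x.1) (U := W) x.2
  choose b hb using fun x : W => X.nilradical.subschemeι_app_surjective ⟨U x, hU x⟩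
    (X.nilradical.subscheme.presheaf.map ((Opens.map X.nilradical.subschemeι.base).map (homOfLE (hUW x))).op a)
  have hc : ∀ x : W, IsPN (p ^ e) (U x)
      (X.nilradical.subscheme.presheaf.map ((Opens.map X.nilradical.subschemeι.base).map (homOfLE (hUW x))).op a)
      (b x ^ (p ^ e)) := fun x z hz w hw => by
    rw [map_pow]
    refine pow_eq_of_nilpotent_sub p ?_ hne (hn _ _ (isNilpotent_of_stalkMap z _ ?_))
    · have := congrArg (X.presheaf.germ ⊤ (X.nilradical.subschemeι z) trivial) hpX
      rwa [map_natCast, map_zero] at this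
    · rw [map_sub, hw, ← hb x, sub_eq_zero]
      exact Scheme.Hom.germ_stalkMap_apply _ _ _ _ _
  obtain ⟨c, hcc, -⟩ := X.sheaf.existsUnique_gluing' U W (fun x => homOfLE (hUW x))
    (fun x hx => Opens.mem_iSup.2 ⟨⟨x, hx⟩, hxU _⟩) (fun x => b x ^ (p ^ e)) fun x y => by
      refine IsPN.unique (q := p ^ e)
        (a := X.nilradical.subscheme.presheaf.map
          ((Opens.map X.nilradical.subschemeι.base).map (homOfLE (inf_le_left.trans (hUW x) : U x ⊓ U y ≤ W))).op a) ?_ ?_
      · intro z hz w hw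
        refine (IsPN.res (q := p ^ e) (Opens.infLELeft (U x) (U y)) (hc x)) z hz w ?_
        simp only [TopCat.Presheaf.germ_res_apply] at hw ⊢
        exact hw
      · intro z hz w hw
        refine (IsPN.res (q := p ^ e) (Opens.infLERight (U x) (U y)) (hc y)) z hz w ?_
        simp only [TopCat.Presheaf.germ_res_apply] at hw ⊢
        exact hw
  refine ⟨c, fun z hz w hw => ?_⟩
  let x : W := ⟨_, hz⟩
  have h1 := hc x z (hxU x) w (by rw [TopCat.Presheaf.germ_res_apply]; exact hw)
  rw [← h1]
  refine Eq.trans (TopCat.Presheaf.germ_res_apply X.presheaf (homOfLE (hUW x)) _ (hxU x) c).symm ?_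
  exact congrArg (X.presheaf.germ (U x) _ (hxU x)) (hcc x)

/-- The reduction of a Noetherian scheme of characteristic `p` has a norm of degree a positive power of `p`. -/
theorem exists_hasNorm [IsNoetherian X] (hpX : (p : Γ(X, ⊤)) = 0) :
    ∃ e : ℕ, 0 < e ∧ Nrm.HasNorm X.nilradical.subschemeι (p ^ e) := by
  obtain ⟨n, hn⟩ := exists_nil_bound X
  let e := n + 1
  have hne : n ≤ p ^ e := le_trans (Nat.le_succ n) (Nat.lt_pow_self hp.out.one_lt).le
  have hex := exists_isPN p hpX hn hne
  refine ⟨e, Nat.succ_pos n, ⟨{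
    one_le := Nat.one_le_pow _ _ hp.out.pos
    norm := fun U =>
      { toFun := fun a => (hex U a).choose
        map_one' := IsPN.unique (hex U 1).choose_spec fun z hz w hw => by
          rw [map_one] at hw
          rw [map_one, pow_eq_of_nilpotent_sub p ?_ hne (hn _ _ (isNilpotent_of_stalkMap z (w - 1) ?_)), one_pow]
          · have := congrArg (X.presheaf.germ ⊤ (X.nilradical.subschemeι z) trivial) hpX
            rwa [map_natCast, map_zero] at this
          · rw [map_sub, hw, map_one, sub_self]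
        map_mul' := fun a b => IsPN.unique (hex U (a * b)).choose_spec fun z hz w hw => by
          obtain ⟨v, hv⟩ := X.nilradical.subschemeι.stalkMap_surjective z (X.nilradical.subscheme.presheaf.germ _ z hz a)
          obtain ⟨v', hv'⟩ := X.nilradical.subschemeι.stalkMap_surjective z (X.nilradical.subscheme.presheaf.germ _ z hz b)
          rw [map_mul] at hw
          rw [map_mul, (hex U a).choose_spec z hz v hv, (hex U b).choose_spec z hz v' hv', ← mul_pow]
          refine (pow_eq_of_nilpotent_sub p ?_ hne (hn _ _ (isNilpotent_of_stalkMap z _ ?_))).symm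
          · have := congrArg (X.presheaf.germ ⊤ (X.nilradical.subschemeι z) trivial) hpX
            rwa [map_natCast, map_zero] at this
          · rw [map_sub, hw, map_mul, hv, hv', sub_self] }
    norm_res := fun i s => IsPN.unique ((hex _ s).choose_spec.res i) (hex _ _).choose_spec
    norm_app := fun U g => IsPN.unique (hex U _).choose_spec fun z hz w hw => by
      rw [map_pow]
      refine (pow_eq_of_nilpotent_sub p ?_ hne (hn _ _ (isNilpotent_of_stalkMap z _ ?_))).symm
      · have := congrArg (X.presheaf.germ ⊤ (X.nilradical.subschemeι z) trivial) hpX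
        rwa [map_natCast, map_zero] at this
      · rw [map_sub, hw, sub_eq_zero]
        exact (Scheme.Hom.germ_stalkMap_apply _ _ _ _ _).symm
    norm_mem := fun U s z hz hs => by
      obtain ⟨w, hw⟩ := X.nilradical.subschemeι.stalkMap_surjective z (X.nilradical.subscheme.presheaf.germ _ z hz s)
      show X.presheaf.germ U _ hz (hex U s).choose ∈ _
      rw [(hex U s).choose_spec z hz w hw]
      refine Ideal.pow_mem_of_mem _ ?_ _ (pow_pos hp.out.pos _)
      rw [← hw] at hs
      intro hu
      exact hs (hu.map _) }⟩⟩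

end Groth.Agent.NormBundle5.CharP
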