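import Groth.Agent.Lib.Norm11.Datum
import Groth.Agent.Lib.PicCoc15.Basic
import Groth.Agent.Lib.InvTriv15.Finite
import Groth.Agent.Lib.Ample18.Avoid

/-!
The norm of an invertible module along a morphism with multiplicative norms, and its ampleness.
-/

set_option autoImplicit false

universe u

open CategoryTheory Limits AlgebraicGeometry TopologicalSpace Opposite

set_option backward.isDefEq.respectTransparency false
set_option linter.style.haveILetI false

noncomputable section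

namespace Groth.Agent.NormBundle5

open Groth.Agent.M1
open Groth.Agent.M2 (tsec pullSec IsGenerator)

variable {X X' : Scheme.{u}}

/-- Multiplicative norms from functions on `X'` to functions on `X`, of arbitrary degree. -/
structure MulNorm (g : X' ⟶ X) where
  N : ∀ W : X.Opens, Γ(X', g ⁻¹ᵁ W) →* Γ(X, W)
  N_res : ∀ (W W' : X.Opens) (le : W' ≤ W) (a : Γ(X', g ⁻¹ᵁ W)),
    ores le (N W a) = N W' (ores (g.preimage_mono le) a)
  vanish : ∀ (W : X.Opens) (a : Γ(X', g ⁻¹ᵁ W)) (z : X), z ∈ W →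
    (∀ x' : X', g x' = z → x' ∉ X'.basicOpen a) → z ∉ X.basicOpen (N W a)

variable {g : X' ⟶ X}

theorem MulNorm.mem_basicOpen (D : MulNorm g) [UniversallyClosed g] (W : X.Opens)
    (a : Γ(X', g ⁻¹ᵁ W)) {z : X} (hz : z ∈ W)
    (hall : ∀ x' : X', g x' = z → x' ∈ X'.basicOpen a) : z ∈ X.basicOpen (D.N W a) := by
  have hC : IsClosed (g '' ((X'.basicOpen a : Set X')ᶜ)) :=
    g.isClosedMap _ (X'.basicOpen a).2.isClosed_compl
  let W' : X.Opens := W ⊓ ⟨_, hC.isOpen_compl⟩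
  have hle : g ⁻¹ᵁ W' ≤ X'.basicOpen a := fun x hx => by
    by_contra hcon
    exact hx.2 ⟨x, hcon, rfl⟩
  have hzW' : z ∈ W' := ⟨hz, fun ⟨x', hx', e⟩ => hx' (hall x' e)⟩
  have hu : IsUnit (ores (g.preimage_mono (inf_le_left : W' ≤ W)) a) := by
    rw [show ores (g.preimage_mono (inf_le_left : W' ≤ W)) a =
        ores hle (ores (X'.basicOpen_le a) a) from (ores_ores _ _ _).symm]
    exact (RingedSpace.isUnit_res_basicOpen X'.toRingedSpace a).map _
  have h1 := hu.map (D.N W')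
  rw [← D.N_res W W' inf_le_left] at h1
  have h2 : X.basicOpen (ores (inf_le_left : W' ≤ W) (D.N W a)) = W' := Scheme.basicOpen_of_isUnit _ h1
  exact ((X.basicOpen_res (D.N W a) (homOfLE (inf_le_left : W' ≤ W)).op).le (h2.ge hzW')).2

/-- An invertible module on `X` which is the norm of one on `X'`: generators on an open cover whose
transition functions are the norms of those of generators upstairs. -/
structure Pair (D : MulNorm g) (L : X.Modules) (L' : X'.Modules) where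
  hL : PicF.IsInvertible L
  hL' : PicF.IsInvertible L'
  W : X → X.Opens
  mem : ∀ x, x ∈ W x
  e : ∀ x, Γ(L, W x)
  he : ∀ x, IsGenerator (e x)
  e' : ∀ x, Γ(L', g ⁻¹ᵁ W x)
  he' : ∀ x, IsGenerator (e' x)
  η : ∀ x y, Γ(X', g ⁻¹ᵁ (W x ⊓ W y))
  rel' : ∀ x y, mres L' (g.preimage_mono (inf_le_left : W x ⊓ W y ≤ W x)) (e' x) =
    η x y • mres L' (g.preimage_mono (inf_le_right : W x ⊓ W y ≤ W y)) (e' y)
  rel : ∀ x y, mres L (inf_le_left : W x ⊓ W y ≤ W x) (e x) =
    D.N _ (η x y) • mres L (inf_le_right : W x ⊓ W y ≤ W y) (e y)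

theorem isGenerator_pw {Y : Scheme.{u}} {M : Y.Modules} (hM : PicF.IsInvertible M) {U : Y.Opens} {e : Γ(M, U)}
    (he : IsGenerator e) (n : ℕ) : IsGenerator (Amp.pw e n) :=
  Twist.isGen_of_stalk fun _ hw => Amp.gen_pw hM hw _ _ (Amp.gen_of_isGenerator he hw)

/-- Powers of a pair. -/
def Pair.pow {D : MulNorm g} {L : X.Modules} {L' : X'.Modules} (P : Pair D L L') (n : ℕ) :
    Pair D (CohB1.tensorPow L n) (CohB1.tensorPow L' n) where
  hL := M2.isInvertible_tensorPow P.hL n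
  hL' := M2.isInvertible_tensorPow P.hL' n
  W := P.W
  mem := P.mem
  e x := Amp.pw (P.e x) n
  he x := isGenerator_pw P.hL (P.he x) n
  e' x := Amp.pw (P.e' x) n
  he' x := isGenerator_pw P.hL' (P.he' x) n
  η x y := P.η x y ^ n
  rel' x y := by
    rw [show mres (CohB1.tensorPow L' n) (g.preimage_mono (inf_le_left : P.W x ⊓ P.W y ≤ P.W x))
        (Amp.pw (P.e' x) n) = Amp.pw (mres L' (g.preimage_mono inf_le_left) (P.e' x)) n from Amp.res_pw _ _ _,
      P.rel' x y, Amp.pw_smul]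
    exact congrArg _ (Amp.res_pw _ _ _).symm
  rel x y := by
    rw [show mres (CohB1.tensorPow L n) (inf_le_left : P.W x ⊓ P.W y ≤ P.W x) (Amp.pw (P.e x) n) =
        Amp.pw (mres L inf_le_left (P.e x)) n from Amp.res_pw _ _ _,
      P.rel x y, Amp.pw_smul, map_pow]
    exact congrArg _ (Amp.res_pw _ _ _).symm

/-- The norm of a global section. -/
theorem Pair.exists_norm_sec {D : MulNorm g} {L : X.Modules} {L' : X'.Modules} (P : Pair D L L')
    [UniversallyClosed g] (t : Γ(L', ⊤)) :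
    ∃ s : Γ(L, ⊤), ∀ z : X,
      ((∀ x' : X', g x' = z → Amp.Gen (Amp.gm L' x' (U := ⊤) trivial t)) →
        Amp.Gen (Amp.gm L z (U := ⊤) trivial s)) ∧
      ((∀ x' : X', g x' = z → ¬ Amp.Gen (Amp.gm L' x' (U := ⊤) trivial t)) →
        ¬ Amp.Gen (Amp.gm L z (U := ⊤) trivial s)) := by
  choose a ha using fun x => Amp.exists_coeff (P.he' x) (mres L' (le_top : g ⁻¹ᵁ P.W x ≤ ⊤) t)
  let sx : ∀ x, Γ(L, P.W x) := fun x => D.N _ (a x) • P.e x
  have hcompat : ∀ x y, mres L (inf_le_left : P.W x ⊓ P.W y ≤ P.W x) (sx x) =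
      mres L (inf_le_right : P.W x ⊓ P.W y ≤ P.W y) (sx y) := by
    intro x y
    have hgy : IsGenerator (mres L' (g.preimage_mono (inf_le_right : P.W x ⊓ P.W y ≤ P.W y)) (P.e' y)) :=
      Amp.isGenerator_res _ (P.he' y)
    have h1 : ores (g.preimage_mono (inf_le_left : P.W x ⊓ P.W y ≤ P.W x)) (a x) * P.η x y =
        ores (g.preimage_mono (inf_le_right : P.W x ⊓ P.W y ≤ P.W y)) (a y) := by
      refine (hgy _ le_rfl).1 ?_
      simp only [mres_id]
      have hx := congrArg (mres L' (g.preimage_mono (inf_le_left : P.W x ⊓ P.W y ≤ P.W x))) (ha x)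
      have hy := congrArg (mres L' (g.preimage_mono (inf_le_right : P.W x ⊓ P.W y ≤ P.W y))) (ha y)
      rw [mres_smul, mres_mres, P.rel' x y, smul_smul] at hx
      rw [mres_smul, mres_mres] at hy
      exact hx.trans hy.symm
    simp only [sx]
    rw [mres_smul, mres_smul, D.N_res _ _ inf_le_left, D.N_res _ _ inf_le_right, P.rel x y, smul_smul,
      ← map_mul, h1]
  obtain ⟨s, hs, -⟩ := TopCat.Sheaf.existsUnique_gluing' ⟨_, L.isSheaf⟩ (fun x => P.W x) (⊤ : X.Opens)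
    (fun _ => homOfLE le_top) (fun z _ => Opens.mem_iSup.2 ⟨z, P.mem z⟩) sx hcompat
  refine ⟨s, fun z => ?_⟩
  have hz : z ∈ P.W z := P.mem z
  have hsz : Amp.Gen (Amp.gm L z (U := ⊤) trivial s) ↔ z ∈ X.basicOpen (D.N _ (a z)) := by
    rw [← Norm11.gen_gm_iff (P.he z) (D.N _ (a z)) hz, ← Amp.gm_res (le_top : P.W z ≤ ⊤) hz,
      show M2.res L le_top s = sx z from hs z]
  have htx : ∀ x' : X', g x' = z →
      (Amp.Gen (Amp.gm L' x' (U := ⊤) trivial t) ↔ x' ∈ X'.basicOpen (a z)) := fun x' hx' => by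
    have hx'W : x' ∈ g ⁻¹ᵁ P.W z := by show g x' ∈ P.W z; rw [hx']; exact hz
    rw [← Norm11.gen_gm_iff (P.he' z) (a z) hx'W, ha, Amp.gm_res]
  exact ⟨fun H => hsz.2 (D.mem_basicOpen _ _ hz fun x' hx' => (htx x' hx').1 (H x' hx')),
    fun H h' => D.vanish _ (a z) z hz (fun x' hx' hmem => H x' hx' ((htx x' hx').2 hmem)) (hsz.1 h')⟩

/-- The norm of an ample module is ample. -/
theorem Pair.isAmple {D : MulNorm g} {L : X.Modules} {L' : X'.Modules} (P : Pair D L L')
    [IsFinite g] [Surjective g] (hA : CohB1.IsAmple L') : CohB1.IsAmple L := by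
  haveI : CompactSpace X' := (Amp.isAmple_iff.1 hA).2.1
  haveI : CompactSpace X := g.surjective.compactSpace g.continuous
  refine Amp.isAmple_iff.2 ⟨P.hL, inferInstance, fun z => ?_⟩
  obtain ⟨V, hV, hzV, -⟩ := exists_isAffineOpen_mem_and_subset (U := (⊤ : X.Opens)) (x := z) trivial
  obtain ⟨n, G, ⟨s', rfl⟩, hZG, hGV, -⟩ := Amp.exists_affine_hasSec_finite hA
    (IsFinite.finite_preimage_singleton g z) (U := g ⁻¹ᵁ V)
    (fun x' hx' => by show g x' ∈ V; rw [show g x' = z from hx']; exact hzV)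
  obtain ⟨s, hs⟩ := (P.pow (n + 1)).exists_norm_sec (Amp.gval s')
  have hgen : ∀ x' : X', Amp.Gen (Amp.gm _ x' (U := ⊤) trivial (Amp.gval s')) ↔
      x' ∈ CohB1.genLocus _ s' := fun x' => (Amp.mem_genLocus_iff (P.pow (n + 1)).hL' s').symm
  let G' := CohB1.genLocus (CohB1.tensorPow L (n + 1)) (M1.secHom s)
  have hmem : ∀ w, w ∈ G' ↔ Amp.Gen (Amp.gm _ w (U := ⊤) trivial s) := fun w => by
    rw [Amp.mem_genLocus_iff (P.pow (n + 1)).hL, Amp.gval_secHom]
  have hSec : Amp.HasSec L (n + 1) G' := Amp.hasSec_iff.2 ⟨M1.secHom s, rfl⟩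
  have hGV' : G' ≤ V := fun w hw => by
    by_contra hcon
    exact (hs w).2 (fun x' hx' hgen' => hcon (by
      rw [← hx']
      exact hGV ((hgen x').1 hgen'))) ((hmem w).1 hw)
  refine ⟨n, G', hSec, (hmem z).2 ((hs z).1 fun x' hx' => (hgen x').2 (hZG hx')), ?_⟩
  have := Amp.isAffineOpen_inf_hasSec P.hL hSec hV
  rwa [inf_eq_left.2 hGV'] at this

/-- An invertible module on the source of a finite morphism is trivial over an open around any
point of the target. -/
theorem exists_gen_nhd [IsFinite g] {L' : X'.Modules} (hL' : PicF.IsInvertible L') (x : X) :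
    ∃ (W : X.Opens) (e' : Γ(L', g ⁻¹ᵁ W)), x ∈ W ∧ IsGenerator e' := by
  obtain ⟨V, hV, hxV, -⟩ := exists_isAffineOpen_mem_and_subset (U := (⊤ : X.Opens)) (x := x) trivial
  have hU : IsAffineOpen (g ⁻¹ᵁ V) := hV.preimage g
  haveI : IsAffine ((g ⁻¹ᵁ V : X'.Opens) : Scheme.{u}) := hU
  have hZU : g ⁻¹' {x} ⊆ (g ⁻¹ᵁ V : X'.Opens) := fun x' hx' => by
    show g x' ∈ V; rw [show g x' = x from hx']; exact hxV
  have hL'U : PicF.IsInvertible (L'.restrict (g ⁻¹ᵁ V).ι) :=
    Twist.isInvertible_restrict L' _ fun y => hL' _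
  obtain ⟨s, hG, hTG, -⟩ := Amp.exists_affine_section_finite hL'U (Z := (g ⁻¹ᵁ V).ι ⁻¹' (g ⁻¹' {x}))
    ((IsFinite.finite_preimage_singleton g x).preimage (g ⁻¹ᵁ V).ι.isOpenEmbedding.injective.injOn)
    (W := ⊤) (fun _ _ => trivial)
  obtain ⟨t, ht⟩ := RA.exists_sec_of_restrict hL' (g ⁻¹ᵁ V) s
  let O : X'.Opens := (g ⁻¹ᵁ V).ι ''ᵁ CohB1.genLocus (L'.restrict (g ⁻¹ᵁ V).ι) s
  let W : X.Opens := V ⊓ ⟨_, (g.isClosedMap _ O.2.isClosed_compl).isOpen_compl⟩
  have hWO : g ⁻¹ᵁ W ≤ O := fun y hy => by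
    by_contra hcon
    exact hy.2 ⟨y, hcon, rfl⟩
  have hWV : g ⁻¹ᵁ W ≤ g ⁻¹ᵁ V := g.preimage_mono inf_le_left
  refine ⟨W, M2.res L' hWV t, ⟨hxV, fun ⟨y, hy, hyx⟩ => hy ?_⟩, Twist.isGen_of_stalk fun y hy => ?_⟩
  · exact ⟨⟨y, hZU hyx⟩, hTG hyx, rfl⟩
  · obtain ⟨w, hw, hwy⟩ := hWO hy
    have h1 := (ht w).mp hw
    subst hwy
    show Amp.Gen (Amp.gm L' _ hy (M2.res L' hWV t))
    have h2 : Amp.gm L' ((g ⁻¹ᵁ V).ι w) hy (M2.res L' hWV t) = Amp.gm L' w.1 w.2 t := Amp.gm_res hWV _ t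
    exact (congrArg Amp.Gen h2).mpr h1

/-- The norm of an invertible module. -/
theorem exists_pair (D : MulNorm g) [IsFinite g] {L' : X'.Modules} (hL' : PicF.IsInvertible L') :
    ∃ L : X.Modules, Nonempty (Pair D L L') := by
  choose W e' hxW he' using fun x : X => exists_gen_nhd (g := g) hL' x
  choose η hη using fun x y => Amp.exists_coeff
    (Amp.isGenerator_res (g.preimage_mono (inf_le_right : W x ⊓ W y ≤ W y)) (he' y))
    (mres L' (g.preimage_mono (inf_le_left : W x ⊓ W y ≤ W x)) (e' x))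
  have hη' : ∀ (x y : X) (O : X.Opens) (hx : O ≤ W x) (hy : O ≤ W y),
      mres L' (g.preimage_mono hx) (e' x) =
        ores (g.preimage_mono (le_inf hx hy)) (η x y) • mres L' (g.preimage_mono hy) (e' y) := by
    intro x y O hx hy
    have h : mres L' (g.preimage_mono (le_inf hx hy))
          (η x y • mres L' (g.preimage_mono (inf_le_right : W x ⊓ W y ≤ W y)) (e' y)) =
        mres L' (g.preimage_mono (le_inf hx hy))
          (mres L' (g.preimage_mono (inf_le_left : W x ⊓ W y ≤ W x)) (e' x)) := congrArg _ (hη x y)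
    rw [mres_smul, mres_mres, mres_mres] at h
    exact h.symm
  have hinj : ∀ (y : X) (O : X.Opens) (hy : O ≤ W y) (a b : Γ(X', g ⁻¹ᵁ O)),
      a • mres L' (g.preimage_mono hy) (e' y) = b • mres L' (g.preimage_mono hy) (e' y) → a = b :=
    fun y O hy a b h => (he' y _ (g.preimage_mono hy)).1 h
  have hu : ∀ x y, IsUnit (η x y) := fun x y => by
    refine isUnit_iff_exists_inv.2 ⟨ores (g.preimage_mono (le_inf inf_le_right inf_le_left)) (η y x),
      hinj x (W x ⊓ W y) inf_le_left _ _ ?_⟩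
    rw [one_smul, mul_smul]
    rw [← hη' y x (W x ⊓ W y) inf_le_right inf_le_left]
    exact hη x y
  have hcov : iSup W = ⊤ := eq_top_iff.2 fun x _ => Opens.mem_iSup.2 ⟨x, hxW x⟩
  obtain ⟨L, e, hL, he, hrel⟩ := PicCoc15.exists_realizing W hcov (fun x y => ((hu x y).map (D.N _)).unit) (by
    intro i j k
    simp only [IsUnit.unit_spec]
    show ores (inf_le_inf_right (W k) inf_le_left : W i ⊓ W j ⊓ W k ≤ W i ⊓ W k) (D.N _ (η i k)) =
      ores (inf_le_left : W i ⊓ W j ⊓ W k ≤ W i ⊓ W j) (D.N _ (η i j)) *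
        ores (inf_le_inf_right (W k) inf_le_right : W i ⊓ W j ⊓ W k ≤ W j ⊓ W k) (D.N _ (η j k))
    rw [D.N_res, D.N_res, D.N_res, ← map_mul]
    refine congrArg _ (hinj k _ inf_le_right _ _ ?_)
    rw [mul_smul]
    refine (hη' i k _ (inf_le_left.trans inf_le_left) inf_le_right).symm.trans ?_
    rw [hη' i j _ (inf_le_left.trans inf_le_left) (inf_le_left.trans inf_le_right),
      hη' j k _ (inf_le_left.trans inf_le_right) inf_le_right])
  refine ⟨L, ⟨⟨hL, hL', W, hxW, e, fun x => he x, e', he', η, fun x y => (hη x y).symm, fun x y => ?_⟩⟩⟩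
  rw [hrel x y, IsUnit.unit_spec]

/-- Ample modules descend along finite surjective morphisms with norms. -/
theorem exists_isAmple (D : MulNorm g) [IsFinite g] [Surjective g] {L' : X'.Modules}
    (hA : CohB1.IsAmple L') : ∃ L : X.Modules, CohB1.IsAmple L := by
  obtain ⟨L, ⟨P⟩⟩ := exists_pair D (g := g) (Amp.isAmple_iff.1 hA).1
  exact ⟨L, P.isAmple hA⟩

end Groth.Agent.NormBundle5
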