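import Mathlib

/-!
The norm of an integral element of a finite extension of the fraction field of an integrally closed domain.
-/

set_option autoImplicit false
set_option linter.style.haveILetI false

universe u

open Polynomial
open scoped IntermediateField

namespace Groth.Agent.NormBundle5

theorem exists_norm_eq {A K B L : Type u} [CommRing A] [IsDomain A] [IsIntegrallyClosed A] [Field K]
    [Algebra A K] [IsFractionRing A K] [CommRing B] [Algebra A B] [Field L] [Algebra K L] [Algebra A L]
    [IsScalarTower A K L] [Algebra B L] [IsScalarTower A B L] [FiniteDimensional K L]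
    (hinj : Function.Injective (algebraMap B L)) (b : B) (hb : IsIntegral A b) :
    ∃ c : A, algebraMap A K c = Algebra.norm K (algebraMap B L b) ∧ algebraMap A B c ∈ Ideal.span {b} := by
  haveI : IsDomain B := hinj.isDomain _
  let x := algebraMap B L b
  have hxA : IsIntegral A x := hb.algebraMap
  have hxK : IsIntegral K x := IsIntegral.tower_top hxA
  let P := minpoly A x
  have hP : minpoly K x = P.map (algebraMap A K) := minpoly.isIntegrallyClosed_eq_field_fractions' K hxA
  let m := (minpoly K x).natDegree
  let k := Module.finrank K⟮x⟯ L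
  have hk : 0 < k := Module.finrank_pos
  refine ⟨((-1) ^ m * P.coeff 0) ^ k, ?_, ?_⟩
  · rw [Algebra.norm_eq_norm_adjoin K x, ← IntermediateField.adjoin.powerBasis_gen hxK,
      Algebra.PowerBasis.norm_gen_eq_coeff_zero_minpoly, IntermediateField.adjoin.powerBasis_gen,
      IntermediateField.minpoly_gen, hP, coeff_map, map_pow, map_mul, map_pow, map_neg, map_one,
      IntermediateField.adjoin.powerBasis_dim]
  · have h0 : aeval b P = 0 := hinj (by rw [← aeval_algebraMap_apply, map_zero]; exact minpoly.aeval A x)
    have h1 : algebraMap A B (P.coeff 0) ∈ Ideal.span {b} := by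
      have h2 := congrArg (aeval b) (X_mul_divX_add P)
      rw [map_add, map_mul, aeval_X, aeval_C, h0] at h2
      rw [eq_neg_of_add_eq_zero_right h2]
      exact neg_mem (Ideal.mem_span_singleton'.2 ⟨_, mul_comm _ _⟩)
    rw [map_pow, map_mul]
    exact Ideal.pow_mem_of_mem _ (Ideal.mul_mem_left _ _ h1) k hk

/-- The fraction field of a finite extension domain is finite over the fraction field. -/
theorem finiteDimensional_of_finite {A K B L : Type u} [CommRing A] [Field K] [Algebra A K]
    [CommRing B] [Algebra A B] [Module.Finite A B] [Field L] [Algebra K L] [Algebra A L]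
    [IsScalarTower A K L] [Algebra B L] [IsScalarTower A B L] [IsFractionRing B L] :
    FiniteDimensional K L := by
  let S : Subalgebra K L := Algebra.adjoin K (Set.range (algebraMap B L))
  obtain ⟨s, hs⟩ := Module.Finite.fg_top (R := A) (M := B)
  have hfg : (Subalgebra.toSubmodule S).FG := by
    classical
    refine ⟨s.image (algebraMap B L), le_antisymm ?_ ?_⟩
    · rw [Submodule.span_le]
      intro y hy
      obtain ⟨b, -, rfl⟩ := Finset.mem_image.1 (Finset.mem_coe.1 hy)
      exact Algebra.subset_adjoin ⟨b, rfl⟩
    · intro y hy
      rw [Finset.coe_image]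
      have key : ∀ b : B, algebraMap B L b ∈ Submodule.span K (algebraMap B L '' s) := fun b => by
        have hb : b ∈ Submodule.span A (s : Set B) := hs ▸ Submodule.mem_top
        induction hb using Submodule.span_induction with
        | mem z hz => exact Submodule.subset_span ⟨z, hz, rfl⟩
        | zero => rw [map_zero]; exact zero_mem _
        | add z w _ _ hz hw => rw [map_add]; exact add_mem hz hw
        | smul a z _ hz =>
          rw [Algebra.smul_def, map_mul, ← IsScalarTower.algebraMap_apply A B L,
            IsScalarTower.algebraMap_apply A K L, ← Algebra.smul_def]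
          exact Submodule.smul_mem _ _ hz
      have hy' : y ∈ Submodule.span K (Submonoid.closure (Set.range (algebraMap B L)) : Set L) := by
        rw [← Algebra.adjoin_eq_span]
        exact hy
      refine Submodule.span_le.2 ?_ hy'
      intro z hz
      have hcl : Submonoid.closure (Set.range (algebraMap B L)) ≤ MonoidHom.mrange (algebraMap B L).toMonoidHom :=
        Submonoid.closure_le.2 fun z ⟨b, hb⟩ => ⟨b, hb⟩
      obtain ⟨b, rfl⟩ := hcl hz
      exact key b
  haveI : Module.Finite K S := Module.Finite.iff_fg.2 hfg
  haveI : Algebra.IsIntegral K S := Algebra.IsIntegral.of_finite K S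
  have hf : IsField S := isField_of_isIntegral_of_isField' (Field.toIsField K)
  haveI : Nontrivial B := (algebraMap B L).domain_nontrivial
  have htop : ∀ y : L, y ∈ S := fun y => by
    obtain ⟨a, b, hb, rfl⟩ := IsFractionRing.div_surjective (A := B) y
    have hb' : algebraMap B L b ≠ 0 := IsFractionRing.to_map_ne_zero_of_mem_nonZeroDivisors hb
    obtain ⟨c, hc⟩ := hf.mul_inv_cancel (a := (⟨algebraMap B L b, Algebra.subset_adjoin ⟨b, rfl⟩⟩ : S))
      (fun h => hb' (congrArg Subtype.val h))
    have hc' : algebraMap B L b * (c : L) = 1 := congrArg Subtype.val hc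
    rw [div_eq_mul_inv, inv_eq_of_mul_eq_one_right hc']
    exact S.mul_mem (Algebra.subset_adjoin ⟨a, rfl⟩) c.2
  exact Module.Finite.of_surjective S.val.toLinearMap fun y => ⟨⟨y, htop y⟩, rfl⟩

end Groth.Agent.NormBundle5
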