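import Groth.Agent.Lib.NormBundle5.Core
import Groth.Agent.Lib.Norm11.Restrict

/-!
Norms of a morphism with locally free direct image, and restriction to opens.
-/

set_option autoImplicit false

universe u

open CategoryTheory Limits AlgebraicGeometry TopologicalSpace Opposite

set_option backward.isDefEq.respectTransparency false
set_option linter.style.haveILetI false

noncomputable section

namespace Groth.Agent.NormBundle5

open Groth.Agent.M1
open Groth.Agent.Norm11 (IsABas nrm)
open Groth.Agent.M2 (pullSec IsGenerator)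

variable {X X' : Scheme.{u}} {g : X' ⟶ X}

theorem nrm_one (T : X.Opens) : nrm g T (1 : Γ(X', g ⁻¹ᵁ T)) = 1 := by
  letI := (g.app T).hom.toAlgebra
  exact map_one (Algebra.norm Γ(X, T))

/-- The opens inside `W` with a basis. -/
structure Chart (g : X' ⟶ X) (W : X.Opens) where
  T : X.Opens
  le : T ≤ W
  r : ℕ
  e : Fin r → Γ(X', g ⁻¹ᵁ T)
  bas : IsABas g T e

theorem exists_chart (hcov : ∀ x : X, ∃ i : Chart g ⊤, x ∈ i.T) (W : X.Opens) {x : X} (hx : x ∈ W) :
    ∃ i : Chart g W, x ∈ i.T := by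
  obtain ⟨i, hi⟩ := hcov x
  exact ⟨⟨i.T ⊓ W, inf_le_right, i.r, _, i.bas.ores inf_le_left⟩, hi, hx⟩

theorem existsUnique_norm (hcov : ∀ x : X, ∃ i : Chart g ⊤, x ∈ i.T) (W : X.Opens) (a : Γ(X', g ⁻¹ᵁ W)) :
    ∃! c : Γ(X, W), ∀ i : Chart g W, ores i.le c = nrm g i.T (ores (g.preimage_mono i.le) a) := by
  obtain ⟨c, hc, huniq⟩ := X.sheaf.existsUnique_gluing' (fun i : Chart g W => i.T) W (fun i => homOfLE i.le)
    (fun x hx => Opens.mem_iSup.2 (exists_chart hcov W hx))
    (fun i => nrm g i.T (ores (g.preimage_mono i.le) a)) fun i j => by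
      show ores (inf_le_left : i.T ⊓ j.T ≤ i.T) _ = ores (inf_le_right : i.T ⊓ j.T ≤ j.T) _
      rw [i.bas.ores_nrm inf_le_left, j.bas.ores_nrm inf_le_right, ores_ores, ores_ores]
  exact ⟨c, hc, fun y hy => huniq y hy⟩

/-- The norm of a morphism with locally free direct image. -/
def freeN (hcov : ∀ x : X, ∃ i : Chart g ⊤, x ∈ i.T) (W : X.Opens) : Γ(X', g ⁻¹ᵁ W) →* Γ(X, W) where
  toFun a := (existsUnique_norm hcov W a).exists.choose
  map_one' := by
    refine (existsUnique_norm hcov W _).unique (existsUnique_norm hcov W _).exists.choose_spec fun i => ?_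
    rw [map_one, map_one, nrm_one]
  map_mul' a b := by
    refine (existsUnique_norm hcov W _).unique (existsUnique_norm hcov W _).exists.choose_spec fun i => ?_
    rw [map_mul, map_mul, Norm11.nrm_mul, (existsUnique_norm hcov W a).exists.choose_spec i,
      (existsUnique_norm hcov W b).exists.choose_spec i]

theorem freeN_spec (hcov : ∀ x : X, ∃ i : Chart g ⊤, x ∈ i.T) (W : X.Opens) (a : Γ(X', g ⁻¹ᵁ W))
    (i : Chart g W) : ores i.le (freeN hcov W a) = nrm g i.T (ores (g.preimage_mono i.le) a) :=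
  (existsUnique_norm hcov W a).exists.choose_spec i

/-- The multiplicative norm of a morphism with locally free direct image. -/
def freeMulNorm [Surjective g] (hcov : ∀ x : X, ∃ i : Chart g ⊤, x ∈ i.T) : MulNorm g where
  N := freeN hcov
  N_res W W' le a := by
    refine (existsUnique_norm hcov W' _).unique (fun i => ?_) fun i => freeN_spec hcov W' _ i
    refine (ores_ores le i.le _).trans ((freeN_spec hcov W a ⟨i.T, i.le.trans le, i.r, i.e, i.bas⟩).trans ?_)
    rw [ores_ores]
  vanish W a z hz hall hmem := by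
    obtain ⟨i, hi⟩ := exists_chart hcov W hz
    obtain ⟨x', hx'⟩ := g.surjective z
    refine hall x' hx' ?_
    obtain ⟨d, hd⟩ := i.bas.exists_mul_eq (ores (g.preimage_mono i.le) a) (i.bas.pos hi)
    have hz' : z ∈ X.basicOpen (ores i.le (freeN hcov W a)) :=
      (X.basicOpen_res (freeN hcov W a) (homOfLE i.le).op).ge ⟨hi, hmem⟩
    rw [freeN_spec hcov W a i] at hz'
    have h1 : x' ∈ X'.basicOpen (g.app i.T (nrm g i.T (ores (g.preimage_mono i.le) a))) := by
      rw [← Scheme.preimage_basicOpen]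
      show g x' ∈ X.basicOpen _
      rw [hx']
      exact hz'
    rw [hd, Scheme.basicOpen_mul] at h1
    exact ((X'.basicOpen_res a (homOfLE (g.preimage_mono i.le)).op).le h1.1).2

/-- A multiplicative norm from a locally free direct image. -/
theorem exists_mulNorm [Surjective g] (hfree : FlatMod.IsFinLocFree ((Coh.push g).obj (Coh.structureModule X'))) :
    Nonempty (MulNorm g) :=
  ⟨freeMulNorm fun x => by
    obtain ⟨T, r, e, hx, he⟩ := Norm11.exists_isABas hfree x
    exact ⟨⟨T, le_top, r, e, he⟩, hx⟩⟩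

/-! ### Restriction to an open -/

theorem image_ι_basicOpen (U : X.Opens) {V : U.toScheme.Opens} (r : Γ(X, U.ι ''ᵁ V)) :
    U.ι ''ᵁ U.toScheme.basicOpen (show Γ(U.toScheme, V) from r) = X.basicOpen r := by
  rw [Scheme.image_basicOpen, Scheme.Opens.ι_appIso]
  rfl

/-- Restriction of a norm to an open. -/
def MulNorm.restrict (D : MulNorm g) (W₀ : X.Opens) : MulNorm (g ∣_ W₀) where
  N V := (D.N (W₀.ι ''ᵁ V)).comp (ores (X := X') (image_morphismRestrict_preimage g W₀ V).ge).hom.toMonoidHom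
  N_res V V' le a := by
    show ores (X := X) (W₀.ι.image_mono le) (D.N _ _) = D.N _ _
    rw [D.N_res]
    congr 1
    exact (ores_ores (X := X') _ _ _).trans (ores_ores (X := X')
      ((g ⁻¹ᵁ W₀).ι.image_mono ((g ∣_ W₀).preimage_mono le)) (image_morphismRestrict_preimage g W₀ V').ge a).symm
  vanish V a z hz hall hmem := by
    have hz' : W₀.ι z ∈ W₀.ι ''ᵁ V := ⟨z, hz, rfl⟩
    refine D.vanish (W₀.ι ''ᵁ V) (ores (X := X') (image_morphismRestrict_preimage g W₀ V).ge a) (W₀.ι z) hz'
      (fun x' hx' hmem' => ?_) ?_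
    · have hx'W : x' ∈ g ⁻¹ᵁ W₀ := by show g x' ∈ W₀; rw [hx']; exact z.2
      refine hall ⟨x', hx'W⟩ (Subtype.ext ?_) ?_
      · exact (morphismRestrict_base_coe g W₀ ⟨x', hx'W⟩).trans hx'
      · have h := ((X'.basicOpen_res a (homOfLE (image_morphismRestrict_preimage g W₀ V).ge).op).le hmem').2
        obtain ⟨w, hw, hwe⟩ := (image_ι_basicOpen (g ⁻¹ᵁ W₀) a).ge h
        rwa [show (⟨x', hx'W⟩ : (g ⁻¹ᵁ W₀ : X'.Opens)) = w from Subtype.ext hwe.symm]
    · exact (image_ι_basicOpen W₀ _).le ⟨z, hmem, rfl⟩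

end Groth.Agent.NormBundle5
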