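import Groth.Agent.Lib.NormBundle5.Field
import Groth.Agent.Lib.VarDim.Normal
import Groth.Agent.Lib.NormBundle5.Core
import Groth.Prelude.Def_Pi1

/-!
The norm of a finite surjective morphism of integral schemes with normal target.
-/

set_option autoImplicit false

universe u

open CategoryTheory Limits AlgebraicGeometry TopologicalSpace Opposite

set_option backward.isDefEq.respectTransparency false
set_option linter.style.haveILetI false

noncomputable section

namespace Groth.Agent.NormBundle5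

open Groth.Agent.M1

variable {X Y : Scheme.{u}} [IsIntegral X] [IsIntegral Y] (π : X ⟶ Y) [Surjective π]

theorem map_genericPoint : π (genericPoint X) = genericPoint Y := by
  have h := ((genericPoint_spec X).image π.continuous)
  rw [Set.image_univ, π.surjective.range_eq, closure_univ] at h
  exact h.eq (genericPoint_spec Y)

/-- The extension of function fields. -/
def ffHom : Y.functionField →+* X.functionField :=
  (Y.presheaf.stalkSpecializes (specializes_of_eq (map_genericPoint π)) ≫ π.stalkMap (genericPoint X)).hom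

theorem genericPoint_mem_preimage {W : Y.Opens} (h : genericPoint Y ∈ W) : genericPoint X ∈ π ⁻¹ᵁ W := by
  show π (genericPoint X) ∈ W
  rw [map_genericPoint]
  exact h

theorem ffHom_germ (W : Y.Opens) (h : genericPoint Y ∈ W) (a : Γ(Y, W)) :
    ffHom π (Y.presheaf.germ W _ h a) =
      X.presheaf.germ (π ⁻¹ᵁ W) _ (genericPoint_mem_preimage π h) (π.app W a) := by
  show π.stalkMap (genericPoint X) (Y.presheaf.stalkSpecializes _ (Y.presheaf.germ W _ h a)) = _
  rw [TopCat.Presheaf.germ_stalkSpecializes_apply, Scheme.Hom.germ_stalkMap_apply]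

/-- The degree of the extension of function fields. -/
def ffDeg : ℕ :=
  letI := (ffHom π).toAlgebra
  Module.finrank Y.functionField X.functionField

/-- The norm of the extension of function fields. -/
def ffNorm : X.functionField →* Y.functionField :=
  letI := (ffHom π).toAlgebra
  Algebra.norm Y.functionField

/-- `c` is the norm of `a`. -/
def IsFN (W : Y.Opens) (a : Γ(X, π ⁻¹ᵁ W)) (c : Γ(Y, W)) : Prop :=
  ∀ h : genericPoint Y ∈ W, Y.presheaf.germ W _ h c =
    ffNorm π (X.presheaf.germ (π ⁻¹ᵁ W) _ (genericPoint_mem_preimage π h) a)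

theorem mem_of_mem {W : Y.Opens} {y : Y} (hy : y ∈ W) : genericPoint Y ∈ W :=
  ((genericPoint_spec Y).specializes trivial).mem_open W.2 hy

theorem IsFN.unique {W : Y.Opens} {a : Γ(X, π ⁻¹ᵁ W)} {c c' : Γ(Y, W)} (h : IsFN π W a c) (h' : IsFN π W a c') :
    c = c' := by
  refine TopCat.Presheaf.section_ext Y.sheaf W c c' fun y hy => ?_
  refine IsFractionRing.injective (Y.presheaf.stalk y) Y.functionField ?_
  have hW := mem_of_mem hy
  haveI : Nonempty W := ⟨⟨y, hy⟩⟩
  change algebraMap (Y.presheaf.stalk y) Y.functionField (Y.presheaf.germ W y hy c) =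
    algebraMap (Y.presheaf.stalk y) Y.functionField (Y.presheaf.germ W y hy c')
  rw [VarDim.germ_functionField_eq, VarDim.germ_functionField_eq]
  exact (h hW).trans (h' hW).symm

theorem IsFN.res {W W' : Y.Opens} (le : W' ≤ W) {a : Γ(X, π ⁻¹ᵁ W)} {c : Γ(Y, W)} (h : IsFN π W a c) :
    IsFN π W' (ores (π.preimage_mono le) a) (ores le c) := fun h' =>
  (TopCat.Presheaf.germ_res_apply Y.presheaf (homOfLE le) _ h' c).trans ((h (le h')).trans
    (congrArg (ffNorm π) (TopCat.Presheaf.germ_res_apply X.presheaf (homOfLE (π.preimage_mono le)) _ _ a).symm))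

variable [IsFinite π]

theorem finiteDimensional_ff :
    letI := (ffHom π).toAlgebra
    FiniteDimensional Y.functionField X.functionField := by
  letI := (ffHom π).toAlgebra
  obtain ⟨U, hU, hη, -⟩ := exists_isAffineOpen_mem_and_subset (X := Y) (x := genericPoint Y) (U := ⊤) trivial
  haveI : Nonempty U := ⟨⟨_, hη⟩⟩
  haveI : Nonempty (π ⁻¹ᵁ U : X.Opens) := ⟨⟨_, genericPoint_mem_preimage π hη⟩⟩
  letI : Algebra Γ(Y, U) Γ(X, π ⁻¹ᵁ U) := (π.app U).hom.toAlgebra
  letI : Algebra Γ(Y, U) X.functionField :=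
    ((algebraMap Γ(X, π ⁻¹ᵁ U) X.functionField).comp (π.app U).hom).toAlgebra
  haveI : IsScalarTower Γ(Y, U) Γ(X, π ⁻¹ᵁ U) X.functionField := IsScalarTower.of_algebraMap_eq fun _ => rfl
  haveI : IsScalarTower Γ(Y, U) Y.functionField X.functionField :=
    IsScalarTower.of_algebraMap_eq fun a => (ffHom_germ π U hη a).symm
  haveI : Module.Finite Γ(Y, U) Γ(X, π ⁻¹ᵁ U) := π.finite_app U hU
  haveI := functionField_isFractionRing_of_isAffineOpen X (π ⁻¹ᵁ U) (hU.preimage π)
  exact finiteDimensional_of_finite (A := Γ(Y, U)) (B := Γ(X, π ⁻¹ᵁ U))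

theorem ffDeg_pos : 0 < ffDeg π := by
  letI := (ffHom π).toAlgebra
  haveI := finiteDimensional_ff π
  exact Module.finrank_pos

variable {π} (hY : Pi1.IsNormalScheme Y)
include hY

theorem exists_fn_affine {U : Y.Opens} (hU : IsAffineOpen U) (hη : genericPoint Y ∈ U) (a : Γ(X, π ⁻¹ᵁ U)) :
    ∃ c, IsFN π U a c ∧ π.app U c ∈ Ideal.span {a} := by
  letI := (ffHom π).toAlgebra
  haveI := finiteDimensional_ff π
  haveI : Nonempty U := ⟨⟨_, hη⟩⟩
  haveI : Nonempty (π ⁻¹ᵁ U : X.Opens) := ⟨⟨_, genericPoint_mem_preimage π hη⟩⟩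
  letI : Algebra Γ(Y, U) Γ(X, π ⁻¹ᵁ U) := (π.app U).hom.toAlgebra
  letI : Algebra Γ(Y, U) X.functionField :=
    ((algebraMap Γ(X, π ⁻¹ᵁ U) X.functionField).comp (π.app U).hom).toAlgebra
  haveI : IsScalarTower Γ(Y, U) Γ(X, π ⁻¹ᵁ U) X.functionField := IsScalarTower.of_algebraMap_eq fun _ => rfl
  haveI : IsScalarTower Γ(Y, U) Y.functionField X.functionField :=
    IsScalarTower.of_algebraMap_eq fun a => (ffHom_germ π U hη a).symm
  haveI : Module.Finite Γ(Y, U) Γ(X, π ⁻¹ᵁ U) := π.finite_app U hU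
  haveI := functionField_isFractionRing_of_isAffineOpen Y U hU
  haveI : IsIntegrallyClosed Γ(Y, U) := VarDim.isIntegrallyClosed_sections (fun y => (hY y).2) U
  obtain ⟨c, hc, hc'⟩ := exists_norm_eq (A := Γ(Y, U)) (K := Y.functionField) (L := X.functionField)
    (X.germToFunctionField_injective (π ⁻¹ᵁ U)) a (Algebra.IsIntegral.isIntegral a)
  exact ⟨c, fun _ => hc, hc'⟩

theorem exists_fn (W : Y.Opens) (a : Γ(X, π ⁻¹ᵁ W)) : ∃ c, IsFN π W a c := by
  by_cases hη : genericPoint Y ∈ W
  · haveI : Nonempty W := ⟨⟨_, hη⟩⟩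
    obtain ⟨c, hc⟩ := VarDim.exists_section_of_forall_stalk W
      (ffNorm π (X.presheaf.germ (π ⁻¹ᵁ W) _ (genericPoint_mem_preimage π hη) a)) fun y hy => by
        obtain ⟨U, hU, hyU, hUW⟩ := exists_isAffineOpen_mem_and_subset (X := Y) (x := y) (U := W) hy
        haveI : Nonempty U := ⟨⟨y, hyU⟩⟩
        obtain ⟨c, hc, -⟩ := exists_fn_affine hY hU (mem_of_mem hyU) (ores (π.preimage_mono hUW) a)
        refine ⟨Y.presheaf.germ U y hyU c, ?_⟩
        rw [VarDim.germ_functionField_eq]
        exact (hc (mem_of_mem hyU)).trans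
          (congrArg (ffNorm π) (TopCat.Presheaf.germ_res_apply X.presheaf (homOfLE (π.preimage_mono hUW)) _ _ a))
    exact ⟨c, fun _ => hc⟩
  · exact ⟨0, fun h => absurd h hη⟩

/-- The norm over an open. -/
def fn (W : Y.Opens) : Γ(X, π ⁻¹ᵁ W) →* Γ(Y, W) where
  toFun a := (exists_fn hY W a).choose
  map_one' := IsFN.unique π (exists_fn hY W 1).choose_spec fun h => by
    rw [map_one, map_one, map_one]
  map_mul' a b := IsFN.unique π (exists_fn hY W (a * b)).choose_spec fun h => by
    rw [map_mul, map_mul, map_mul, (exists_fn hY W a).choose_spec h, (exists_fn hY W b).choose_spec h]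

theorem isFN_fn (W : Y.Opens) (a : Γ(X, π ⁻¹ᵁ W)) : IsFN π W a (fn hY W a) := (exists_fn hY W a).choose_spec

theorem fn_res {W W' : Y.Opens} (le : W' ≤ W) (a : Γ(X, π ⁻¹ᵁ W)) :
    ores le (fn hY W a) = fn hY W' (ores (π.preimage_mono le) a) :=
  IsFN.unique π ((isFN_fn hY W a).res π le) (isFN_fn hY W' _)

theorem fn_app (W : Y.Opens) (b : Γ(Y, W)) : fn hY W (π.app W b) = b ^ ffDeg π := by
  refine IsFN.unique π (isFN_fn hY W _) fun h => ?_
  rw [map_pow, ← ffHom_germ π W h b]
  letI := (ffHom π).toAlgebra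
  exact (Algebra.norm_algebraMap (S := X.functionField) (Y.presheaf.germ W _ h b)).symm

theorem fn_mem (W : Y.Opens) (a : Γ(X, π ⁻¹ᵁ W)) (x : X) (hx : π x ∈ W) (ha : x ∉ X.basicOpen a) :
    π x ∉ Y.basicOpen (fn hY W a) := by
  intro hmem
  obtain ⟨U, hU, hxU, hUW⟩ := exists_isAffineOpen_mem_and_subset (X := Y) (x := π x) (U := W) hx
  obtain ⟨c, hc, hc'⟩ := exists_fn_affine hY hU (mem_of_mem hxU) (ores (π.preimage_mono hUW) a)
  have he : c = ores hUW (fn hY W a) := IsFN.unique π hc ((isFN_fn hY W a).res π hUW)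
  have hU' : π x ∈ Y.basicOpen c := by
    rw [he]
    exact (Y.basicOpen_res (fn hY W a) (homOfLE hUW).op).ge ⟨hxU, hmem⟩
  obtain ⟨r, hr⟩ := Ideal.mem_span_singleton'.1 hc'
  have h1 : x ∈ X.basicOpen (π.app U c) := by
    rw [← Scheme.preimage_basicOpen]
    exact hU'
  rw [← hr, Scheme.basicOpen_mul] at h1
  exact ha ((X.basicOpen_res a (homOfLE (π.preimage_mono hUW)).op).le h1.2).2

/-- The multiplicative norm of a finite surjective morphism onto a normal scheme. -/
def normalMulNorm : MulNorm π where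
  N := fn hY
  N_res _ _ le a := fn_res hY le a
  vanish W a z hz hall := by
    obtain ⟨x, rfl⟩ := π.surjective z
    exact fn_mem hY W a x hz (hall x rfl)

end Groth.Agent.NormBundle5
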