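import Groth.Agent.Lib.NormBundle5.Free
import Groth.Prelude.Def_Fitting
import Mathlib.AlgebraicGeometry.Morphisms.FlatRank

/-!
Comparison with norms of fixed degree.
-/

set_option autoImplicit false

universe u

open CategoryTheory Limits AlgebraicGeometry TopologicalSpace Opposite

set_option backward.isDefEq.respectTransparency false
set_option linter.style.haveILetI false

noncomputable section

namespace Groth.Agent.NormBundle5

open Groth.Agent.M1

variable {X Y : Scheme.{u}} {π : X ⟶ Y} {d : ℕ}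

theorem surjective_of_norm [IsFinite π] (N : Nrm.NormOfDegree π d) : Surjective π := ⟨fun y => by
  by_contra hy
  push Not at hy
  let W : Y.Opens := ⟨(Set.range π)ᶜ, π.isClosedMap.isClosed_range.isOpen_compl⟩
  have hW : π ⁻¹ᵁ W = ⊥ := eq_bot_iff.mpr fun x hx => (hx ⟨x, rfl⟩).elim
  haveI : Subsingleton Γ(X, π ⁻¹ᵁ W) :=
    CommRingCat.subsingleton_of_isTerminal (hW ▸ X.sheaf.isTerminalOfEmpty)
  have h0 : (0 : Γ(Y, W)) = 1 := by
    have e : (0 : Γ(Y, W)) = N.norm W (π.app W 0) := by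
      rw [N.norm_app, zero_pow (by have := N.one_le; omega)]
    rw [e, show π.app W 0 = 1 from Subsingleton.elim _ _, map_one]
  have hyW : y ∈ W := fun ⟨x, hx⟩ => hy x hx
  have := congrArg (Y.presheaf.germ W y hyW) h0
  rw [map_zero, map_one] at this
  exact zero_ne_one this⟩

/-- The multiplicative norm underlying a norm of fixed degree. -/
def ofNormOfDegree [Surjective π] (N : Nrm.NormOfDegree π d) : MulNorm π where
  N := N.norm
  N_res W W' le a := N.norm_res (homOfLE le) a
  vanish W a z hz hall hmem := by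
    obtain ⟨x, rfl⟩ := π.surjective z
    rw [Scheme.mem_basicOpen _ _ _ hz] at hmem
    refine N.norm_mem W a x hz (fun hu => hall x rfl ?_) hmem
    rw [Scheme.mem_basicOpen _ _ _ (show x ∈ π ⁻¹ᵁ W from hz)]
    exact hu

/-- A multiplicative norm that is `d`-th power on functions from the base is a norm of degree `d`. -/
def toNormOfDegree (D : MulNorm π) (hd : 1 ≤ d) (happ : ∀ (W : Y.Opens) (b : Γ(Y, W)), D.N W (π.app W b) = b ^ d)
    (hvan : ∀ (W : Y.Opens) (a : Γ(X, π ⁻¹ᵁ W)) (x : X), π x ∈ W → x ∉ X.basicOpen a → π x ∉ Y.basicOpen (D.N W a)) :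
    Nrm.NormOfDegree π d where
  one_le := hd
  norm := D.N
  norm_res i s := D.N_res _ _ i.le s
  norm_app := happ
  norm_mem U s x hx hs := by
    intro hu
    refine hvan U s x hx (fun h => hs ?_) ?_
    · exact (Scheme.mem_basicOpen X s x hx).1 h
    · rw [Scheme.mem_basicOpen _ _ _ hx]
      exact hu

theorem finrank_eq_of_isABas [IsFinite π] [Flat π] {U : Y.Opens} (hU : IsAffineOpen U) {r : ℕ}
    {e : Fin r → Γ(X, π ⁻¹ᵁ U)} (he : Norm11.IsABas π U e) {y : Y} (hy : y ∈ U) : π.finrank y = r := by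
  have hU' := hU.preimage π
  have hfin : (π.app U).hom.Finite := π.finite_app U hU
  have hflat : (π.app U).hom.Flat := by
    have := Flat.flat_appLE π hU hU' le_rfl
    rwa [← Scheme.Hom.app_eq_appLE] at this
  have H : IsPullback (π ⁻¹ᵁ U).ι (π ∣_ U ≫ hU.isoSpec.hom) π hU.fromSpec :=
    ((isPullback_morphismRestrict π U).of_iso (Iso.refl _) hU.isoSpec (Iso.refl _) (Iso.refl _)
      (by simp) (by simp) (by simp [← IsAffineOpen.isoSpec_inv_ι]) (by simp)).flip
  have hcomp : π ∣_ U ≫ hU.isoSpec.hom = hU'.isoSpec.hom ≫ Spec.map (π.app U) := by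
    rw [← cancel_mono hU.fromSpec, Category.assoc, IsAffineOpen.isoSpec_hom_fromSpec, morphismRestrict_ι,
      Category.assoc, Scheme.Hom.app_eq_appLE, IsAffineOpen.SpecMap_appLE_fromSpec π hU hU' le_rfl,
      IsAffineOpen.isoSpec_hom_fromSpec_assoc]
  let p : Spec Γ(Y, U) := hU.primeIdealOf ⟨y, hy⟩
  have h1 := Scheme.Hom.finrank_of_isPullback _ _ _ _ H p
  rw [hcomp] at h1
  haveI : IsFinite (Spec.map (π.app U)) := (IsFinite.SpecMap_iff _).2 hfin
  haveI : Flat (Spec.map (π.app U)) := (Flat.SpecMap_iff).2 hflat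
  rw [Scheme.Hom.finrank_comp_left_of_isIso, Scheme.Hom.finrank_SpecMap_eq_finrank hfin hflat,
    hU.fromSpec_primeIdealOf] at h1
  rw [← h1]
  letI := (π.app U).hom.toAlgebra
  haveI : Module.Free Γ(Y, U) Γ(X, π ⁻¹ᵁ U) := Module.Free.of_basis he.basis
  haveI : Nontrivial Γ(Y, U) :=
    (show Nonempty (PrimeSpectrum Γ(Y, U)) from ⟨p⟩).elim fun q =>
      ⟨⟨0, 1, fun h => q.isPrime.ne_top ((Ideal.eq_top_iff_one _).2 (h ▸ q.asIdeal.zero_mem))⟩⟩
  show Module.rankAtStalk (R := Γ(Y, U)) Γ(X, π ⁻¹ᵁ U) p = r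
  rw [Module.rankAtStalk_eq_finrank_of_free, Pi.natCast_def]
  simp [Module.finrank_eq_card_basis he.basis]

/-- A finite locally free morphism of constant degree `d` has a norm of degree `d`. -/
theorem hasNorm_of_free [IsFinite π] [Flat π]
    (hfree : FlatMod.IsFinLocFree ((Coh.push π).obj (Coh.structureModule X))) (hd : 1 ≤ d)
    (hdeg : ∀ y : Y, π.finrank y = d) : Nrm.HasNorm π d := by
  haveI : Surjective π := (π.one_le_finrank_iff_surjective).1 fun y => by rw [hdeg]; exact hd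
  have hcov : ∀ y : Y, ∃ i : Chart π ⊤, y ∈ i.T := fun y => by
    obtain ⟨T, r, e, hy, he⟩ := Norm11.exists_isABas hfree y
    exact ⟨⟨T, le_top, r, e, he⟩, hy⟩
  refine ⟨toNormOfDegree (freeMulNorm hcov) hd (fun W b => ?_) fun W a x hx ha hmem => ?_⟩
  · refine (existsUnique_norm hcov W _).unique (fun i => freeN_spec hcov W _ i) fun i => ?_
    rw [Norm11.ores_app i.le, i.bas.nrm_app, map_pow]
    refine TopCat.Presheaf.section_ext Y.sheaf i.T _ _ fun y hy => ?_
    obtain ⟨U, hU, hyU, hUT⟩ := exists_isAffineOpen_mem_and_subset (X := Y) (x := y) (U := i.T) hy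
    rw [← hdeg y, finrank_eq_of_isABas hU (i.bas.ores hUT) hyU]
  · obtain ⟨i, hi⟩ := exists_chart hcov W hx
    obtain ⟨c, hc⟩ := i.bas.exists_mul_eq (ores (π.preimage_mono i.le) a) (i.bas.pos hi)
    have hz' : π x ∈ Y.basicOpen (ores i.le (freeN hcov W a)) :=
      (Y.basicOpen_res (freeN hcov W a) (homOfLE i.le).op).ge ⟨hi, hmem⟩
    rw [freeN_spec hcov W a i] at hz'
    have h1 : x ∈ X.basicOpen (π.app i.T (Norm11.nrm π i.T (ores (π.preimage_mono i.le) a))) := by
      rw [← Scheme.preimage_basicOpen]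
      exact hz'
    rw [hc, Scheme.basicOpen_mul] at h1
    exact ha ((X.basicOpen_res a (homOfLE (π.preimage_mono i.le)).op).le h1.1).2

end Groth.Agent.NormBundle5
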