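import Groth.Agent.Lib.NormBundle5.Core
import Mathlib.AlgebraicGeometry.QuasiAffine

/-!
# Quasi-affineness descends along finite surjective morphisms with a multiplicative norm
-/

set_option autoImplicit false
set_option backward.isDefEq.respectTransparency false
set_option linter.style.haveILetI false

universe u

open CategoryTheory CategoryTheory.Limits AlgebraicGeometry TopologicalSpace

namespace Groth.Agent.NormBundle5

/-- A function on a quasi-affine scheme separating finitely many points from a closed set. -/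
theorem exists_basicOpen_of_finite {X : Scheme.{u}} [X.IsQuasiAffine] (W : X.Opens) {Z : Set X}
    (hZ : Z.Finite) (hZW : ∀ x ∈ Z, x ∈ W) :
    ∃ f : Γ(X, ⊤), (∀ x ∈ Z, x ∈ X.basicOpen f) ∧ X.basicOpen f ≤ W := by
  classical
  let O := X.toSpecΓ ''ᵁ W
  obtain ⟨I, hI⟩ := (PrimeSpectrum.isClosed_iff_zeroLocus_ideal (O.carrierᶜ)).mp
    O.isOpen.isClosed_compl
  have hmem : ∀ x ∈ Z, ¬ I ≤ (X.toSpecΓ x).asIdeal := fun x hx hle => by
    have h : X.toSpecΓ x ∈ (O.carrierᶜ) := hI.symm ▸ hle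
    exact h ⟨x, hZW x hx, rfl⟩
  have hnot : ¬ ((I : Set Γ(X, ⊤)) ⊆ ⋃ x ∈ (hZ.toFinset : Set X), ((X.toSpecΓ x).asIdeal : Set Γ(X, ⊤))) := by
    intro h
    rcases hZ.toFinset.eq_empty_or_nonempty with he | ⟨a, -⟩
    · rw [he] at h
      simpa using h I.zero_mem
    · obtain ⟨x, hx, hle⟩ := (Ideal.subset_union_prime (f := fun x => (X.toSpecΓ x).asIdeal) a a
        (fun x _ _ _ => (X.toSpecΓ x).isPrime)).mp h
      exact hmem x (hZ.mem_toFinset.mp hx) hle
  obtain ⟨f, hfI, hf⟩ := Set.not_subset.mp hnot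
  refine ⟨f, fun x hx => ?_, fun x hx => ?_⟩
  · rw [← Scheme.toSpecΓ_preimage_basicOpen]
    exact fun h => hf (Set.mem_biUnion (hZ.mem_toFinset.mpr hx) h)
  · rw [← Scheme.toSpecΓ_preimage_basicOpen] at hx
    have hO : X.toSpecΓ x ∈ O := by
      by_contra h
      have h' : X.toSpecΓ x ∈ PrimeSpectrum.zeroLocus (I : Set Γ(X, ⊤)) := hI ▸ h
      exact hx (h' hfI)
    obtain ⟨x', hx', he⟩ := hO
    exact X.toSpecΓ.isEmbedding.injective he ▸ hx'

/-- Quasi-affineness descends along a finite surjective morphism with a multiplicative norm. -/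
theorem isQuasiAffine_of_mulNorm {X Y : Scheme.{u}} (π : X ⟶ Y) [IsFinite π] [Surjective π]
    (D : MulNorm π) [X.IsQuasiAffine] : Y.IsQuasiAffine := by
  haveI : CompactSpace Y := ⟨by
    rw [← π.surjective.range_eq]; exact isCompact_range π.continuous⟩
  refine Scheme.IsQuasiAffine.of_forall_exists_mem_basicOpen Y fun y => ?_
  obtain ⟨V, hV, hyV, -⟩ := exists_isAffineOpen_mem_and_subset (x := y) (U := (⊤ : Y.Opens)) trivial
  obtain ⟨f, hfib, hfle⟩ := exists_basicOpen_of_finite (π ⁻¹ᵁ V) (IsFinite.finite_preimage_singleton π y)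
    (fun x (hx : π x = y) => show π x ∈ V from hx ▸ hyV)
  refine ⟨D.N ⊤ f, ?_, D.mem_basicOpen ⊤ f trivial fun x hx => hfib x hx⟩
  have hle : Y.basicOpen (D.N ⊤ f) ≤ V := fun z hz => by
    by_contra hzV
    exact D.vanish ⊤ f z trivial (fun x hx hxf => hzV (hx ▸ hfle hxf)) hz
  rw [← inf_eq_right.mpr hle, ← Scheme.basicOpen_res Y (D.N ⊤ f) (homOfLE (le_top : V ≤ ⊤)).op]
  exact hV.basicOpen _

end Groth.Agent.NormBundle5
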